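import Groth.Agent.MilnorK.K339.GeoOut
import Groth.Agent.MilnorK.K321.SFourX

/-!
# The geometric half of the proof of S13667 (helper339)
-/

set_option autoImplicit false
universe u

open CategoryTheory CategoryTheory.Limits AlgebraicGeometry

namespace K339.GeoOut

open K58

theorem sFour {n : ℕ} [hp : Fact (n + 1).Prime] (X0 : Kum.{u} (n + 1)) (b : X0.kˣ) : SFour X0 b :=
  fun D r g _ _ h => K321.SFour.main D (ptF X0 b) (fun _ => rfl) (isFinLocFree_J X0 b) r g h

/-- **The geometric half.** -/
theorem main (p : ℕ) [Fact p.Prime] : K30.GeoHalf.{u} p :=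
  geoHalf (fun _ _ X0 b => sFour X0 b) p

end K339.GeoOut
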